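import Groth.Agent.AsympCoh.Uniform

/-!
# The cohomology of twists before a window of vanishing

If the cohomology of `F(a + r)` vanishes above degree `q` for `r` in `[m, c m]`, then the cohomology of degree
`q + c` of `F(a)` grows at most like `m ^ c` times a power of the twist of degree `d - c`.
-/

set_option autoImplicit false
set_option linter.style.haveILetI false
set_option linter.unusedSectionVars false
set_option backward.isDefEq.respectTransparency false
set_option backward.isDefEq.respectTransparency.types false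

universe u

open CategoryTheory Limits AlgebraicGeometry Opposite TopologicalSpace

noncomputable section

namespace Groth.Agent.AVHilb

open Groth.Agent.AsympCoh

attribute [local instance] Groth.Agent.Nakai.clMonoid

variable {X : Scheme.{u}} {s : ℕ} (k : Type u) [Field k] [X.Over (Spec (CommRingCat.of k))]

theorem noCh_succ {F : X.Modules} {d : ℕ} (h : NoCh k F d) : NoCh k F (d + 1) := fun c hc hcc =>
  h (fun i => c i.castSucc) (fun i => hc _) fun a b hab => hcc a.castSucc b.castSucc (by simpa using hab)

variable [IsProper (X ↘ Spec (CommRingCat.of k))]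
variable (L : Fin s → X.Modules) (hL : ∀ j, PicF.IsInvertible (L j))

/-- The vanishing window. -/
def Window (F : X.Modules) (v : Fin s → ℕ) (q c : ℕ) (a : Fin s → ℕ) (m : ℕ) : Prop :=
  ∀ r, m ≤ r → r ≤ c * m → ∀ j, q < j → hN k L F j (a + r • v) = 0

include hL in
/-- The bound before a window of vanishing. -/
theorem window_bound [Infinite k] {L₀ : X.Modules} (hL₀ : CohB1.IsAmple L₀) {M : X.Modules}
    (hM : PicF.IsInvertible M) {v : Fin s → ℕ} (hMv : PicF.cl M = PicF.cl (Intersect.N L v)) {n : ℕ}
    (t : Fin n → (Coh.structureModule X ⟶ M)) (ht : ∀ x, ∃ j, x ∈ CohB1.genLocus M (t j)) (q : ℕ) :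
    ∀ (c d : ℕ) (F : X.Modules), Coh.IsCoh F → NoCh k F (d + 1) →
      ∃ C : ℕ, ∀ (a : Fin s → ℕ) (m B : ℕ), 1 ≤ m → Window k L F v q c a m →
        size a + c * m * size v ≤ B → hN k L F (q + c) a ≤ C * (m ^ c * (B + 1) ^ (d - c))
  | 0, d, F, hF, hd => by
    obtain ⟨C, hC⟩ := bdd_all k L hL hL₀ (d + 1) F hF hd (q + 0)
    refine ⟨C * (d + 1), fun a m B _ _ hB => (hC a).trans ?_⟩
    have h1 : size a + 1 ≤ B + 1 := by omega
    simp only [poly, pow_zero, one_mul, Nat.sub_zero, Nat.add_sub_cancel]
    rw [mul_assoc]
    exact Nat.mul_le_mul_left _ (Nat.mul_le_mul_left _ (Nat.pow_le_pow_left h1 _))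
  | c + 1, d, F, hF, hd => by
    obtain ⟨S, hS, h1, h2, hQ, hQd⟩ := exists_cut k hF hM t ht hd
    have hQd' : NoCh k S.X₃ (d - 1 + 1) := by
      rcases Nat.eq_zero_or_pos d with rfl | hd0
      · exact noCh_succ k hQd
      · rwa [Nat.sub_add_cancel hd0]
    obtain ⟨C, hC⟩ := window_bound hL₀ hM hMv t ht q c (d - 1) S.X₃ hQ hQd'
    refine ⟨C, fun a m B hm hw hB => ?_⟩
    have hFM := CohFinite.isCoh_tensor hF hM
    have hineq : ∀ (b : Fin s → ℕ) (i : ℕ),
        hN k L S.X₃ i b ≤ hN k L F i (b + v) + hN k L F (i + 1) b ∧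
          hN k L F i b ≤ hN k L F i (b + v) + hN k L S.X₃ (i - 1) b := fun b i => by
      have hP := Intersect.isInvertible_N hL b
      have k₁ := h_ineq k (CohFinite.shortExact_tmap hP hS) (CohFinite.isCoh_tensor (h1 ▸ hF) hP)
        (CohFinite.isCoh_tensor (h2 ▸ hFM) hP) (CohFinite.isCoh_tensor hQ hP) i
      have k₂ := h_ineq k (CohFinite.shortExact_tmap hP hS) (CohFinite.isCoh_tensor (h1 ▸ hF) hP)
        (CohFinite.isCoh_tensor (h2 ▸ hFM) hP) (CohFinite.isCoh_tensor hQ hP) (i + 1)
      have e : hN k L (CohB1.tensorMod F M) i b = hN k L F i (b + v) := by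
        refine Nakai.h_congr k ?_ i
        simp only [Nakai.cl_tensor, hMv, cl_N_add]
        rw [mul_assoc, mul_comm (PicF.cl (Intersect.N L v))]
      simp only [hN] at *
      rw [h1, h2] at k₁ k₂
      omega
    have tele : ∀ l : ℕ, hN k L F (q + (c + 1)) a ≤
        hN k L F (q + (c + 1)) (a + l • v) + ∑ r ∈ Finset.range l, hN k L S.X₃ (q + c) (a + r • v) := by
      intro l
      induction l with
      | zero => simp
      | succ l ih =>
        have h := (hineq (a + l • v) (q + (c + 1))).2
        rw [show a + l • v + v = a + (l + 1) • v by rw [succ_nsmul, add_assoc],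
          show q + (c + 1) - 1 = q + c by omega] at h
        rw [Finset.sum_range_succ]
        omega
    refine (tele m).trans ?_
    rw [hw m le_rfl (Nat.le_mul_of_pos_left m (Nat.succ_pos c)) _ (by omega), zero_add]
    have hterm : ∀ r ∈ Finset.range m, hN k L S.X₃ (q + c) (a + r • v) ≤
        C * (m ^ c * (B + 1) ^ (d - (c + 1))) := fun r hr => by
      rw [Finset.mem_range] at hr
      rw [show d - (c + 1) = d - 1 - c by omega]
      refine hC _ m B hm (fun r' hr1 hr2 j hj => ?_) ?_
      · have h := (hineq (a + r • v + r' • v) j).1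
        rw [show a + r • v + r' • v = a + (r + r') • v by rw [add_nsmul, add_assoc],
          show a + (r + r') • v + v = a + (r + r' + 1) • v by rw [succ_nsmul, add_assoc],
          hw (r + r' + 1) (by omega) (by rw [add_mul, one_mul]; omega) j hj,
          hw (r + r') (by omega) (by rw [add_mul, one_mul]; omega) (j + 1) (by omega)] at h
        rw [show a + r • v + r' • v = a + (r + r') • v by rw [add_nsmul, add_assoc]]
        omega
      · have hs : size (a + r • v) = size a + r * size v := by
          simp [size, Finset.sum_add_distrib, Finset.mul_sum]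
        rw [hs]
        have : r * size v ≤ m * size v := Nat.mul_le_mul_right _ hr.le
        rw [add_mul, one_mul, add_mul] at hB
        omega
    refine (Finset.sum_le_sum hterm).trans (le_of_eq ?_)
    rw [Finset.sum_const, Finset.card_range, smul_eq_mul, pow_succ]
    ring

end Groth.Agent.AVHilb
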