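import Mathlib

/-!
# Counting roots through the jumps of an index

An antitone `ℕ`-valued function on the rational non-roots of a real polynomial, whose drop over a short window
forces the polynomial to be small, drops across an interval by at most the number of roots in it.
-/

set_option autoImplicit false

open Polynomial

noncomputable section

namespace Groth.Agent.AVHilb

set_option maxHeartbeats 1600000

variable (P : ℝ[X]) (g : ℕ) (I : ℚ → ℕ)

/-- A rational which is not a root. -/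
def Good (x : ℚ) : Prop := P.eval (x : ℝ) ≠ 0

/-- The number of roots in an open interval, with multiplicity. -/
def cnt (a b : ℝ) : ℕ := Multiset.card (P.roots.filter fun x => a < x ∧ x < b)

theorem card_filter_add_le {α : Type*} (m : Multiset α) {p q r : α → Prop} [DecidablePred p] [DecidablePred q]
    [DecidablePred r] (hp : ∀ x, p x → r x) (hq : ∀ x, q x → r x) (hpq : ∀ x, p x → ¬ q x) :
    Multiset.card (m.filter p) + Multiset.card (m.filter q) ≤ Multiset.card (m.filter r) := by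
  induction m using Multiset.induction_on with
  | empty => simp
  | cons a m ih =>
    simp only [Multiset.filter_cons, Multiset.card_add]
    by_cases h1 : p a
    · simp only [h1, hp a h1, hpq a h1, if_true, if_false, Multiset.card_singleton, Multiset.card_zero]
      omega
    · by_cases h2 : q a
      · simp only [h1, h2, hq a h2, if_true, if_false, Multiset.card_singleton, Multiset.card_zero]
        omega
      · simp only [h1, h2, if_false, Multiset.card_zero]
        split_ifs <;> simp <;> omega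

theorem cnt_mono {a b c : ℝ} (h : b ≤ c) : cnt P a b ≤ cnt P a c :=
  Multiset.card_le_card (Multiset.monotone_filter_right _ fun _ hx => ⟨hx.1, hx.2.trans_le h⟩)

theorem cnt_add_mult {a u τ t : ℝ} (hu : u ≤ τ) (ha : a < τ) (ht : τ < t) :
    cnt P a u + P.rootMultiplicity τ ≤ cnt P a t := by
  classical
  rw [← count_roots, Multiset.count_eq_card_filter_eq]
  exact card_filter_add_le _ (fun x hx => ⟨hx.1, by linarith [hx.2]⟩) (fun x hx => hx ▸ ⟨ha, ht⟩)
    fun x hx hxe => by linarith [hx.2, hxe.le, hxe.ge]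

variable (hanti : ∀ s t : ℚ, 0 ≤ s → s ≤ t → Good P s → Good P t → I t ≤ I s)
  (hjump : ∀ R : ℕ, ∃ C : ℝ, 0 ≤ C ∧ ∀ (s δ : ℚ) (q : ℕ), 0 ≤ s → 0 < δ → s + (g + 2) * δ ≤ R → Good P s →
    q < I s → (∀ x : ℚ, s + δ ≤ x → x ≤ s + (g + 2) * δ → Good P x ∧ I x ≤ q) →
      |P.eval (s : ℝ)| ≤ C * (δ : ℝ) ^ (I s - q))

include hanti hjump in
/-- The drop of the index across a point is at most the multiplicity of the root there. -/
theorem exists_local {s : ℚ} (hs0 : 0 ≤ s) (hs : Good P s) {τ : ℝ} (hsτ : (s : ℝ) ≤ τ) :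
    ∃ η : ℝ, 0 < η ∧ (∀ x : ℝ, |x - τ| < η → x ≠ τ → P.eval x ≠ 0) ∧
      ∀ u t : ℚ, s ≤ u → τ - η < (u : ℝ) → (u : ℝ) ≤ τ → Good P u → τ < (t : ℝ) → (t : ℝ) < τ + η →
        I u ≤ I t + (if (u : ℝ) = τ then 0 else P.rootMultiplicity τ) := by
  classical
  have hP : P ≠ 0 := fun h => hs (by simp [h])
  obtain ⟨Q, hQ, hQd⟩ := exists_eq_pow_rootMultiplicity_mul_and_not_dvd P hP τ
  set μ := P.rootMultiplicity τ with hμ
  have hQτ : Q.eval τ ≠ 0 := fun h => hQd (dvd_iff_isRoot.2 h)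
  set r₀ := |Q.eval τ| / 2 with hr₀
  have hr₀p : 0 < r₀ := by positivity
  obtain ⟨η₀', hη₀', hη₀Q⟩ := Metric.continuousAt_iff.1 (Q.continuousAt (a := τ)) r₀ hr₀p
  set η₀ := min η₀' 1 with hη₀def
  have hη₀ : 0 < η₀ := lt_min hη₀' one_pos
  have hlow : ∀ x : ℝ, |x - τ| < η₀ → |x - τ| ^ μ * r₀ ≤ |P.eval x| := fun x hx => by
    have h := hη₀Q (show dist x τ < η₀' by rw [Real.dist_eq]; exact hx.trans_le (min_le_left _ _))
    rw [Real.dist_eq] at h
    have h2 : r₀ ≤ |Q.eval x| := by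
      have := abs_sub_abs_le_abs_sub (Q.eval τ) (Q.eval x)
      rw [abs_sub_comm] at h
      linarith
    calc |x - τ| ^ μ * r₀ ≤ |x - τ| ^ μ * |Q.eval x| := mul_le_mul_of_nonneg_left h2 (by positivity)
      _ = |P.eval x| := by rw [hQ, eval_mul, eval_pow, eval_sub, eval_X, eval_C, abs_mul, abs_pow]
  have hne : ∀ x : ℝ, |x - τ| < η₀ → x ≠ τ → P.eval x ≠ 0 := fun x hx hxτ h => by
    have := hlow x hx
    rw [h, abs_zero] at this
    have : 0 < |x - τ| ^ μ * r₀ := mul_pos (pow_pos (abs_pos.2 (sub_ne_zero.2 hxτ)) _) hr₀p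
    linarith
  have hgood : ∀ x : ℚ, τ - η₀ < (x : ℝ) → (x : ℝ) < τ + η₀ → (x : ℝ) ≠ τ → Good P x := fun x h1 h2 h3 =>
    hne _ (abs_lt.2 ⟨by linarith, by linarith⟩) h3
  -- the constant value on the right
  let Sr : Set ℕ := {n | ∃ t : ℚ, τ < (t : ℝ) ∧ (t : ℝ) < τ + η₀ ∧ I t = n}
  have hSr : Sr.Nonempty := by
    obtain ⟨t, h1, h2⟩ := exists_rat_btwn (show τ < τ + η₀ by linarith)
    exact ⟨I t, t, h1, h2, rfl⟩
  have hSrb : BddAbove Sr := ⟨I s, by
    rintro n ⟨t, h1, h2, rfl⟩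
    exact hanti s t hs0 (by exact_mod_cast hsτ.trans h1.le) hs (hgood t (by linarith) h2 h1.ne')⟩
  obtain ⟨t₁, ht₁, ht₁', hq⟩ := Nat.sSup_mem hSr hSrb
  set q := sSup Sr
  have hright : ∀ t : ℚ, τ < (t : ℝ) → (t : ℝ) < τ + (t₁ - τ) → I t = q := fun t h1 h2 => by
    have hle : t ≤ t₁ := by exact_mod_cast (show (t : ℝ) ≤ t₁ by linarith)
    refine le_antisymm (le_csSup hSrb ⟨t, h1, by linarith, rfl⟩) (hq ▸ hanti t t₁ ?_ hle
      (hgood t (by linarith) (by linarith) h1.ne') (hgood t₁ (by linarith) ht₁' ht₁.ne'))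
    exact hs0.trans (by exact_mod_cast hsτ.trans h1.le)
  -- the constant value on the left
  obtain ⟨η₂, hη₂, hleft⟩ : ∃ η₂ : ℝ, 0 < η₂ ∧ ∀ u v : ℚ, s ≤ u → s ≤ v → τ - η₂ < (u : ℝ) → (u : ℝ) < τ →
      τ - η₂ < (v : ℝ) → (v : ℝ) < τ → I u = I v := by
    rcases hsτ.eq_or_lt with he | hlt
    · exact ⟨1, one_pos, fun u v hu _ _ hu' => absurd hu' (not_lt.2 (by rw [← he]; exact_mod_cast hu))⟩
    let Sl : Set ℕ := {n | ∃ u : ℚ, (s : ℝ) ≤ u ∧ τ - η₀ < (u : ℝ) ∧ (u : ℝ) < τ ∧ I u = n}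
    have hSl : Sl.Nonempty := by
      obtain ⟨u, h1, h2⟩ := exists_rat_btwn (show max (s : ℝ) (τ - η₀) < τ from max_lt hlt (by linarith))
      exact ⟨I u, u, ((le_max_left _ _).trans_lt h1).le, (le_max_right _ _).trans_lt h1, h2, rfl⟩
    obtain ⟨s₁, hs₁, hs₁', hs₁'', hp⟩ := Nat.sInf_mem hSl
    refine ⟨τ - s₁, by linarith, ?_⟩
    have hval : ∀ u : ℚ, s ≤ u → τ - (τ - s₁) < (u : ℝ) → (u : ℝ) < τ → I u = I s₁ := fun u hu h1 h2 => by
      have hu' : (s : ℝ) ≤ u := by exact_mod_cast hu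
      refine le_antisymm (hanti s₁ u ?_ (by exact_mod_cast (show (s₁ : ℝ) ≤ u by linarith))
        (hgood s₁ hs₁' (by linarith) hs₁''.ne) (hgood u (by linarith) (by linarith) h2.ne)) (hp ▸ Nat.sInf_le
          ⟨u, hu', by linarith, h2, rfl⟩)
      exact hs0.trans (by exact_mod_cast hs₁)
    exact fun u v hu hv hu1 hu2 hv1 hv2 => (hval u hu hu1 hu2).trans (hval v hv hv1 hv2).symm
  set η := min η₀ (min (t₁ - τ) η₂) with hηdef
  have hη : 0 < η := lt_min hη₀ (lt_min (by linarith) hη₂)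
  have hη0 : η ≤ η₀ := min_le_left _ _
  have hη1 : η ≤ t₁ - τ := (min_le_right _ _).trans (min_le_left _ _)
  have hη2 : η ≤ η₂ := (min_le_right _ _).trans (min_le_right _ _)
  refine ⟨η, hη, fun x hx => hne x (hx.trans_le hη0), fun u t hu hu1 hu2 hug ht1 ht2 => ?_⟩
  rw [hright t ht1 (by linarith)]
  by_contra hcon
  obtain ⟨R, hR⟩ := exists_nat_ge (τ + 1)
  obtain ⟨C, hC0, hC⟩ := hjump R
  have hu0 : 0 ≤ u := hs0.trans hu
  have hwin : ∀ (v δ : ℚ), τ < (v : ℝ) + δ → (v : ℝ) + (g + 2) * δ < τ + η →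
      ∀ x : ℚ, v + δ ≤ x → x ≤ v + (g + 2) * δ → Good P x ∧ I x ≤ q := fun v δ h1 h2 x hx1 hx2 => by
    have hx1' : (v : ℝ) + δ ≤ x := by exact_mod_cast hx1
    have hx2' : (x : ℝ) ≤ v + (g + 2) * δ := by exact_mod_cast hx2
    exact ⟨hgood x (by linarith) (by linarith) (by linarith), (hright x (by linarith) (by linarith)).le⟩
  have hη1' : η ≤ 1 := hη0.trans (min_le_right _ _)
  split_ifs at hcon with heq
  · have hε : 0 < |P.eval (u : ℝ)| := abs_pos.2 hug
    obtain ⟨δ, hδ0, hδ⟩ := exists_rat_btwn (show (0 : ℝ) < min (η / (g + 3)) (|P.eval (u : ℝ)| / (C + 1)) from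
      lt_min (by positivity) (by positivity))
    have hδ0' : (0 : ℚ) < δ := by exact_mod_cast hδ0
    have hδη : (δ : ℝ) * (g + 3) < η := (lt_div_iff₀ (by positivity)).1 (hδ.trans_le (min_le_left _ _))
    have hδε : (δ : ℝ) * (C + 1) < |P.eval (u : ℝ)| := (lt_div_iff₀ (by positivity)).1 (hδ.trans_le (min_le_right _ _))
    have hg0 : (0 : ℝ) ≤ δ * g := by positivity
    have hub : ((u + (g + 2) * δ : ℚ) : ℝ) ≤ ((R : ℚ) : ℝ) := by push_cast; nlinarith
    have h := hC u δ q hu0 hδ0' (by exact_mod_cast hub) hug (by omega) (hwin u δ (by linarith) (by nlinarith))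
    have h2 : (δ : ℝ) ^ (I u - q) ≤ δ := pow_le_of_le_one hδ0.le (by nlinarith) (by omega)
    nlinarith
  · have hlt : (u : ℝ) < τ := lt_of_le_of_ne hu2 heq
    set c := I u - q with hc
    have hμc : μ + 1 ≤ c := by omega
    obtain ⟨δ, hδ0, hδ⟩ := exists_rat_btwn (show (0 : ℝ) < min (η / (2 * g + 6))
        (min ((τ - u) / 3) (r₀ / (C * 2 ^ c + 1))) from
      lt_min (by positivity) (lt_min (by linarith) (by positivity)))
    have hδη : (δ : ℝ) * (2 * g + 6) < η := (lt_div_iff₀ (by positivity)).1 (hδ.trans_le (min_le_left _ _))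
    have hδu : (δ : ℝ) < (τ - u) / 3 := hδ.trans_le ((min_le_right _ _).trans (min_le_left _ _))
    have hδr : (δ : ℝ) * (C * 2 ^ c + 1) < r₀ :=
      (lt_div_iff₀ (by positivity)).1 (hδ.trans_le ((min_le_right _ _).trans (min_le_right _ _)))
    have hg0 : (0 : ℝ) ≤ δ * g := by positivity
    obtain ⟨v, hv1, hv2⟩ := exists_rat_btwn (show τ - 2 * (δ : ℝ) < τ - δ by linarith)
    have huv : u ≤ v := by exact_mod_cast (show (u : ℝ) ≤ v by linarith)
    have hvg : Good P v := hgood v (by linarith) (by linarith) (by linarith)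
    have hIv : I v = I u := hleft v u (hu.trans huv) hu (by linarith) (by linarith) (by linarith) hlt
    have hub : ((v + (g + 2) * (2 * δ) : ℚ) : ℝ) ≤ ((R : ℚ) : ℝ) := by push_cast; nlinarith
    have hδ0' : (0 : ℚ) < δ := by exact_mod_cast hδ0
    have h := hC v (2 * δ) q (hu0.trans huv) (by linarith) (by exact_mod_cast hub) hvg (by omega)
      (hwin v (2 * δ) (by push_cast; linarith) (by push_cast; nlinarith))
    rw [hIv, ← hc] at h
    push_cast at h
    rw [mul_pow] at h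
    have h2 : (δ : ℝ) ^ c ≤ δ ^ μ * δ := by
      rw [← pow_succ]; exact pow_le_pow_of_le_one hδ0.le (by nlinarith) hμc
    have h3 : (δ : ℝ) ^ μ * r₀ ≤ |P.eval (v : ℝ)| := by
      refine le_trans ?_ (hlow v (abs_lt.2 ⟨by linarith, by linarith⟩))
      refine mul_le_mul_of_nonneg_right (pow_le_pow_left₀ hδ0.le ?_ _) hr₀p.le
      rw [abs_sub_comm, abs_of_pos (by linarith)]
      linarith
    have h4 : (δ : ℝ) ^ μ * r₀ ≤ δ ^ μ * ((C * 2 ^ c) * δ) := by
      refine h3.trans (h.trans ?_)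
      calc C * (2 ^ c * (δ : ℝ) ^ c) ≤ C * (2 ^ c * (δ ^ μ * δ)) := by gcongr
        _ = _ := by ring
    have h5 := le_of_mul_le_mul_left h4 (by positivity)
    nlinarith

include hanti hjump in
/-- **The drop of the index over an interval is at most the number of roots in it.** -/
theorem index_le_add_cnt {s t : ℚ} (hs0 : 0 ≤ s) (hst : s ≤ t) (hs : Good P s) (ht : Good P t) :
    I s ≤ I t + cnt P s t := by
  classical
  let S : Set ℝ := {x | ∃ u : ℚ, (u : ℝ) = x ∧ s ≤ u ∧ u ≤ t ∧ Good P u ∧ I s ≤ I u + cnt P s u}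
  have hSne : S.Nonempty := ⟨s, s, rfl, le_rfl, hst, hs, Nat.le_add_right _ _⟩
  have hSb : BddAbove S := ⟨t, by rintro x ⟨u, rfl, -, h, -⟩; exact_mod_cast h⟩
  set τ := sSup S
  have hsτ : (s : ℝ) ≤ τ := le_csSup hSb ⟨s, rfl, le_rfl, hst, hs, Nat.le_add_right _ _⟩
  have hτt : τ ≤ (t : ℝ) := csSup_le hSne (by rintro x ⟨u, rfl, -, h, -⟩; exact_mod_cast h)
  obtain ⟨η, hη, hne, hloc⟩ := exists_local P g I hanti hjump hs0 hs hsτ
  obtain ⟨x, ⟨u, rfl, hsu, hut, hug, hIu⟩, hux⟩ := exists_lt_of_lt_csSup hSne (show τ - η < τ by linarith)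
  have huτ : (u : ℝ) ≤ τ := le_csSup hSb ⟨u, rfl, hsu, hut, hug, hIu⟩
  rcases hτt.eq_or_lt with he | hlt
  · rcases hut.eq_or_lt with rfl | hlt'
    · exact hIu
    · obtain ⟨t', h1, h2⟩ := exists_rat_btwn (show τ < τ + η by linarith)
      have h := hloc u t' hsu hux huτ hug h1 h2
      have hμ : P.rootMultiplicity τ = 0 := rootMultiplicity_eq_zero (by rw [he]; exact ht)
      rw [hμ, ite_self, add_zero] at h
      have h' := hanti t t' (hs0.trans hst) (by exact_mod_cast (show (t : ℝ) ≤ t' by linarith)) ht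
        (hne _ (abs_lt.2 ⟨by linarith, by linarith⟩) (by linarith))
      have := cnt_mono P (a := (s : ℝ)) (show (u : ℝ) ≤ (t : ℝ) by exact_mod_cast hut)
      omega
  · obtain ⟨t', h1, h2⟩ := exists_rat_btwn (show τ < min (τ + η) t from lt_min (by linarith) hlt)
    have h2' : (t' : ℝ) < τ + η := h2.trans_le (min_le_left _ _)
    have h2'' : (t' : ℝ) < t := h2.trans_le (min_le_right _ _)
    have h := hloc u t' hsu hux huτ hug h1 h2'
    refine absurd (le_csSup hSb ⟨t', rfl, by exact_mod_cast hsτ.trans h1.le, by exact_mod_cast h2''.le,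
      hne _ (abs_lt.2 ⟨by linarith, by linarith⟩) h1.ne', ?_⟩) (not_le.2 h1)
    split_ifs at h with heq
    · have := cnt_mono P (a := (s : ℝ)) (show (u : ℝ) ≤ (t' : ℝ) by linarith)
      omega
    · have hlt' : (u : ℝ) < τ := lt_of_le_of_ne huτ heq
      have hsu' : (s : ℝ) ≤ u := by exact_mod_cast hsu
      have := cnt_add_mult P huτ (show (s : ℝ) < τ by linarith) h1
      omega

end Groth.Agent.AVHilb
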