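import Groth.Agent.AVHilb.Cut
import Groth.Agent.AVHilb.RootCount
import Groth.Agent.AVIndex.Additive
import Groth.Agent.AVFin.Basic

/-!
# The index along a line through an ample class

Over an algebraically closed field the drop of the index of `l ^ b * h ^ a` as `a / b` moves over an interval is
at most the number of roots of the Hilbert polynomial in that interval.
-/

set_option autoImplicit false
set_option backward.isDefEq.respectTransparency false
set_option backward.isDefEq.respectTransparency.types false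
set_option linter.style.haveILetI false
set_option linter.unusedSectionVars false
set_option maxHeartbeats 2000000
set_option synthInstance.maxHeartbeats 200000

universe u

open CategoryTheory CategoryTheory.Limits MonoidalCategory CartesianMonoidalCategory MonObj GrpObj AlgebraicGeometry
open Groth.Agent.W7Cube (pull pc pc_id)
open Groth.Agent.AVDeg (rep isInvertible_rep cls_rep nonempty_rep_iso nonempty_rep_pows top topLin topLin_apply)
open Groth.Agent.AVEuler (χc)
open Groth.Agent.AVIndex (Conc ConcC)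

noncomputable section

namespace Groth.Agent.AVHilb

attribute [local instance] W7Cube.law AVDeg.overInst
attribute [local instance] Groth.Agent.Nakai.clMonoid

variable {k : Type u} [Field k] {A : Over (Spec (CommRingCat.of k))} [GrpObj A] [IsProper A.hom]
  [GeometricallyIntegral A.hom] [IsCommMonObj A] {g : ℕ} (hg : topologicalKrullDim A.left = (g : WithBot ℕ∞))

/-- The Hilbert polynomial of `l` along `h`. -/
def hilb (l h : PicLoc.PicSet A.left) : Polynomial ℚ :=
  ∑ s : Finset (Fin g), Polynomial.C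
    (topLin k hg.le (s.piecewise (fun _ => Additive.ofMul l) fun _ => Additive.ofMul h) / g.factorial) *
      Polynomial.X ^ (g - s.card)

theorem natDegree_hilb (l h : PicLoc.PicSet A.left) : (hilb hg l h).natDegree ≤ g :=
  Polynomial.natDegree_sum_le_of_forall_le _ _ fun s _ =>
    (Polynomial.natDegree_C_mul_X_pow_le _ _).trans (Nat.sub_le _ _)

/-- The Euler characteristic of a monomial. -/
theorem χc_eq (l h : PicLoc.PicSet A.left) (a b : ℕ) (hb : 0 < b) :
    (χc (l ^ b * h ^ a) : ℚ) = (b : ℚ) ^ g * (hilb hg l h).eval ((a : ℚ) / b) := by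
  classical
  let x : Additive (PicLoc.PicSet A.left) := Additive.ofMul l
  let y : Additive (PicLoc.PicSet A.left) := Additive.ofMul h
  have hexp : topLin k hg.le (fun _ : Fin g => b • x + a • y) =
      ∑ s : Finset (Fin g), ((b : ℚ) ^ s.card * (a : ℚ) ^ (g - s.card)) *
        topLin k hg.le (s.piecewise (fun _ => x) (fun _ => y)) := by
    rw [show (fun _ : Fin g => b • x + a • y) = (fun _ => b • x) + fun _ => a • y from rfl,
      MultilinearMap.map_add_univ]
    refine Finset.sum_congr rfl fun s _ => ?_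
    have h := (topLin k hg.le).map_smul_univ (s.piecewise (fun _ => (b : ℤ)) (fun _ => (a : ℤ)))
      (s.piecewise (fun _ => x) (fun _ => y))
    have he : (s.piecewise (fun _ => b • x) fun _ => a • y : Fin g → Additive (PicLoc.PicSet A.left)) =
        fun i => s.piecewise (fun _ => (b : ℤ)) (fun _ => (a : ℤ)) i • s.piecewise (fun _ => x) (fun _ => y) i := by
      funext i
      by_cases hi : i ∈ s <;> simp [hi]
    rw [he, h, zsmul_eq_mul]
    congr 1
    rw [Finset.prod_piecewise, Finset.prod_const, Finset.prod_const, Finset.univ_inter, Finset.card_sdiff_of_subset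
      (Finset.subset_univ s), Finset.card_univ, Fintype.card_fin]
    push_cast
    rfl
  rw [AVEuler.cast_eq hg, hilb, Polynomial.eval_finsetSum, Finset.mul_sum,
    show (fun _ : Fin g => l ^ b * h ^ a) = fun _ : Fin g => Additive.toMul (b • x + a • y) from rfl,
    ← topLin_apply hg.le, hexp, Finset.sum_div]
  refine Finset.sum_congr rfl fun s _ => ?_
  have hsg : s.card ≤ g := s.card_le_univ.trans_eq (Fintype.card_fin g)
  have hb0 : (b : ℚ) ≠ 0 := Nat.cast_ne_zero.2 hb.ne'
  rw [Polynomial.eval_mul, Polynomial.eval_C, Polynomial.eval_pow, Polynomial.eval_X, div_pow,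
    show (b : ℚ) ^ g = b ^ s.card * b ^ (g - s.card) by rw [← pow_add, Nat.add_sub_cancel' hsg]]
  field_simp
  rfl

/-- The Hilbert polynomial of the inverse class. -/
theorem hilb_inv (l h : PicLoc.PicSet A.left) :
    (hilb hg l⁻¹ h).comp (-Polynomial.X) = Polynomial.C ((-1 : ℚ) ^ g) * hilb hg l h := by
  classical
  simp only [hilb, Polynomial.sum_comp, Finset.mul_sum]
  refine Finset.sum_congr rfl fun s _ => ?_
  have hsg : s.card ≤ g := s.card_le_univ.trans_eq (Fintype.card_fin g)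
  have hms := (topLin k hg.le).map_smul_univ (s.piecewise (fun _ => (-1 : ℤ)) (fun _ => (1 : ℤ)))
    (s.piecewise (fun _ => Additive.ofMul l) (fun _ => Additive.ofMul h))
  have he : (s.piecewise (fun _ => Additive.ofMul l⁻¹) fun _ => Additive.ofMul h :
      Fin g → Additive (PicLoc.PicSet A.left)) =
      fun i => s.piecewise (fun _ => (-1 : ℤ)) (fun _ => (1 : ℤ)) i •
        s.piecewise (fun _ => Additive.ofMul l) (fun _ => Additive.ofMul h) i := by
    funext i
    by_cases hi : i ∈ s <;> simp [hi]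
  rw [he, hms, zsmul_eq_mul, Finset.prod_piecewise, Finset.prod_const, Finset.prod_const, Finset.univ_inter]
  simp only [Polynomial.mul_comp, Polynomial.C_comp, Polynomial.pow_comp, Polynomial.X_comp, one_pow, _root_.mul_one]
  push_cast
  rw [← _root_.mul_assoc, ← Polynomial.C_mul, neg_pow (Polynomial.X : Polynomial ℚ), ← _root_.mul_assoc,
    show (-1 : Polynomial ℚ) = Polynomial.C (-1) by simp, ← Polynomial.C_pow, ← Polynomial.C_mul]
  congr 2
  rw [show (-1 : ℚ) ^ g = (-1) ^ s.card * (-1) ^ (g - s.card) by rw [← pow_add, Nat.add_sub_cancel' hsg]]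
  ring

variable [IsAlgClosed k]

include hg in
/-- A class with non-zero Euler characteristic has an index. -/
theorem exists_conc {c : PicLoc.PicSet A.left} (hc : χc c ≠ 0) : ∃ i, i ≤ g ∧ ConcC c i := by
  have hnd : {x : 𝟙_ (Over (Spec (CommRingCat.of k))) ⟶ A | pc c (𝟙 A * (toUnit A ≫ x)) = c}.Finite := by
    by_contra h
    refine hc (AVDeg.euler_eq_zero_of_degenerate (isInvertible_rep c) ?_)
    rw [cls_rep]
    exact h
  haveI : IsFinite (𝟙 A : A ⟶ A).left := inferInstanceAs (IsFinite (𝟙 A.left))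
  haveI : Surjective (𝟙 A : A ⟶ A).left := inferInstanceAs (Surjective (𝟙 A.left))
  obtain ⟨i, hi, h1, -⟩ := AVIndex.exists_index (𝟙 A) (isInvertible_rep c) (isInvertible_rep c⁻¹)
    (by rw [cls_rep, cls_rep, pc_id]) (by rw [cls_rep]; exact hnd) g hg
  exact ⟨i, hi, AVIndex.conc_of_iff h1⟩

theorem χc_ne_zero {c : PicLoc.PicSet A.left} {i : ℕ} (h : ConcC c i) : χc c ≠ 0 :=
  Conc.euler_ne_zero (isInvertible_rep c) h

include hg in
theorem le_dim {c : PicLoc.PicSet A.left} {i : ℕ} (h : ConcC c i) : i ≤ g := by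
  obtain ⟨j, hj, hc⟩ := exists_conc hg (χc_ne_zero h)
  rwa [Conc.unique h hc]

/-- The non-zero cohomology of a class with an index. -/
theorem abs_χc {c : PicLoc.PicSet A.left} {i : ℕ} (h : ConcC c i) :
    |(χc c : ℝ)| = (CurveRR.h k (rep c) i : ℝ) := by
  rw [χc, CurveRR.euler_eq_sum (k := k) (X := A.left) (rep c) (i + 1) fun j hj => h.1 j (by omega),
    Finset.sum_eq_single i (fun j _ hj => by rw [CurveRR.h_eq_zero (k := k) (X := A.left) (h.1 j hj),
      Nat.cast_zero, mul_zero]) fun hn => absurd (Finset.self_mem_range_succ i) hn]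
  push_cast
  rw [abs_mul, abs_pow, abs_neg, abs_one, one_pow, _root_.one_mul, Nat.abs_cast]

include hg in
/-- An ample class has index zero. -/
theorem conc_ample {h : PicLoc.PicSet A.left} (hh : CohB1.IsAmple (rep h)) : ConcC h 0 := by
  have hne : χc h ≠ 0 := fun h0 => (AVDeg.top_pos (k := k) hg hh).ne' (by
    rw [← AVEuler.factorial_mul hg, cls_rep, h0, Int.cast_zero, mul_zero])
  obtain ⟨i, -, hi⟩ := exists_conc hg hne
  rcases Nat.eq_zero_or_pos i with rfl | hpos
  · exact hi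
  · exact absurd (AVFin.hh_pos hh i hpos) (not_subsingleton_iff_nontrivial.2 hi.2)

/-- The cohomology of a monomial as a twist. -/
theorem hN_eq (l h : PicLoc.PicSet A.left) (a b j : ℕ) :
    AsympCoh.hN k ![rep l, rep h] (Coh.structureModule A.left) j ![b, a] = CurveRR.h k (rep (l ^ b * h ^ a)) j := by
  obtain ⟨e⟩ := nonempty_rep_pows l h b a
  exact CurveRR.h_eq_of_iso (TMul.leftUnitIso _ ≪≫ e.symm) j

variable (l h : PicLoc.PicSet A.left)

/-- The index at a rational point of the line. -/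
def idx (x : ℚ) : ℕ :=
  haveI := Classical.propDecidable (∃ i, ConcC (l ^ x.den * h ^ x.num.toNat) i)
  if hx : ∃ i, ConcC (l ^ x.den * h ^ x.num.toNat) i then hx.choose else 0

/-- The real Hilbert polynomial. -/
abbrev hilbR : Polynomial ℝ := (hilb hg l h).map (algebraMap ℚ ℝ)

theorem eval_hilbR (x : ℚ) : (hilbR hg l h).eval (x : ℝ) = (((hilb hg l h).eval x : ℚ) : ℝ) := by
  rw [hilbR, show (x : ℝ) = algebraMap ℚ ℝ x from (eq_ratCast _ _).symm, Polynomial.eval_map,
    Polynomial.eval₂_at_apply]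
  exact eq_ratCast _ _

theorem good_iff (a b : ℕ) (hb : 0 < b) :
    Good (hilbR hg l h) ((a : ℚ) / b) ↔ χc (l ^ b * h ^ a) ≠ 0 := by
  rw [Good, eval_hilbR, Rat.cast_ne_zero, ← Int.cast_ne_zero (α := ℚ), χc_eq hg l h a b hb, mul_ne_zero_iff]
  exact ⟨fun h => ⟨pow_ne_zero _ (Nat.cast_ne_zero.2 hb.ne'), h⟩, fun h => h.2⟩

include hg in
/-- The index at a point does not depend on the fraction. -/
theorem conc_idx {x : ℚ} (hx : 0 ≤ x) (hgood : Good (hilbR hg l h) x) {a b : ℕ} (hb : 0 < b) (hab : (a : ℚ) / b = x) :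
    ConcC (l ^ b * h ^ a) (idx l h x) := by
  have hnum : (x.num.toNat : ℚ) / x.den = x := by
    conv_rhs => rw [← Rat.num_div_den x]
    congr 1
    exact_mod_cast Int.toNat_of_nonneg (Rat.num_nonneg.2 hx)
  have hex : ∃ i, ConcC (l ^ x.den * h ^ x.num.toNat) i :=
    let ⟨i, _, hi⟩ := exists_conc hg ((good_iff hg l h _ _ x.den_pos).1 (hnum.symm ▸ hgood))
    ⟨i, hi⟩
  obtain ⟨j, -, hj⟩ := exists_conc hg ((good_iff hg l h a b hb).1 (hab.symm ▸ hgood))
  have hi : idx l h x = hex.choose := by rw [idx, dif_pos hex]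
  have h1 := hex.choose_spec.pow hb
  have h2 := hj.pow x.den_pos
  have he : (l ^ x.den * h ^ x.num.toNat) ^ b = (l ^ b * h ^ a) ^ x.den := by
    have h3 : (x.num.toNat : ℚ) * b = a * x.den :=
      (div_eq_div_iff (Nat.cast_ne_zero.2 x.den_pos.ne') (Nat.cast_ne_zero.2 hb.ne')).1 (hnum.trans hab.symm)
    rw [mul_pow, mul_pow, ← pow_mul, ← pow_mul, ← pow_mul, ← pow_mul, show x.num.toNat * b = a * x.den by
      exact_mod_cast h3, Nat.mul_comm x.den b]
  rw [he] at h1
  rw [hi, Conc.unique h1 h2]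
  exact hj

variable (hh : CohB1.IsAmple (rep h))

include hg hh in
theorem idx_anti (s t : ℚ) (hs : 0 ≤ s) (hst : s ≤ t) (hsg : Good (hilbR hg l h) s) (htg : Good (hilbR hg l h) t) :
    idx l h t ≤ idx l h s := by
  have hnum : ∀ y : ℚ, 0 ≤ y → (y.num.toNat : ℚ) = y * y.den := fun y hy => by
    rw [Rat.mul_den_eq_num]
    exact_mod_cast Int.toNat_of_nonneg (Rat.num_nonneg.2 hy)
  set b := s.den * t.den with hbdef
  have hb : 0 < b := Nat.mul_pos s.den_pos t.den_pos
  have hb0 : (b : ℚ) ≠ 0 := Nat.cast_ne_zero.2 hb.ne'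
  have hea : ((s.num.toNat * t.den : ℕ) : ℚ) / b = s := by
    rw [div_eq_iff hb0, hbdef]; push_cast; rw [hnum s hs]; ring
  have hea' : ((t.num.toNat * s.den : ℕ) : ℚ) / b = t := by
    rw [div_eq_iff hb0, hbdef]; push_cast; rw [hnum t (hs.trans hst)]; ring
  have h1 := conc_idx hg l h hs hsg hb hea
  have h2 := conc_idx hg l h (hs.trans hst) htg hb hea'
  have hle : s.num.toNat * t.den ≤ t.num.toNat * s.den := by
    have h3 : ((s.num.toNat * t.den : ℕ) : ℚ) / b ≤ ((t.num.toNat * s.den : ℕ) : ℚ) / b := by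
      rw [hea, hea']; exact hst
    exact_mod_cast (div_le_div_iff_of_pos_right (by positivity)).1 h3
  obtain ⟨n, hn⟩ := Nat.exists_eq_add_of_le hle
  rcases Nat.eq_zero_or_pos n with rfl | hn0
  · rw [hn, add_zero] at h2
    rw [Conc.unique h1 h2]
  · have h4 := AVIndex.index_add_le h1 ((conc_ample hg hh).pow hn0) (by rw [_root_.mul_assoc, ← pow_add, ← hn]; exact h2)
    omega

include hg hh in
theorem idx_jump (R : ℕ) : ∃ C : ℝ, 0 ≤ C ∧ ∀ (s δ : ℚ) (q : ℕ), 0 ≤ s → 0 < δ → s + (g + 2) * δ ≤ R →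
    Good (hilbR hg l h) s → q < idx l h s →
    (∀ x : ℚ, s + δ ≤ x → x ≤ s + (g + 2) * δ → Good (hilbR hg l h) x ∧ idx l h x ≤ q) →
      |(hilbR hg l h).eval (s : ℝ)| ≤ C * (δ : ℝ) ^ (idx l h s - q) := by
  classical
  haveI := CurveRR.isNoetherian_of_proper k A.left
  have hH := isInvertible_rep h
  have hM : PicF.IsInvertible (CohB1.tensorMod (rep h) (rep h)) := TMul.isInvertible_tensorMod hH hH
  choose t ht using AVFin.gen_sq hh
  obtain ⟨F, hF⟩ := isCompact_univ.elim_finite_subcover (fun x => (CohB1.genLocus _ (t x) : Set A.left))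
    (fun x => (CohB1.genLocus _ (t x)).2) (fun x _ => Set.mem_iUnion.mpr ⟨x, ht x⟩)
  have hgen : ∀ x, ∃ j : Fin F.card, x ∈ CohB1.genLocus _ (t (F.equivFin.symm j).1) := fun x => by
    obtain ⟨p, hp, hxp⟩ := Set.mem_iUnion₂.mp (hF (Set.mem_univ x))
    exact ⟨F.equivFin ⟨p, hp⟩, by rw [Equiv.symm_apply_apply]; exact hxp⟩
  have hMv : PicF.cl (CohB1.tensorMod (rep h) (rep h)) =
      PicF.cl (Intersect.N ![rep l, rep h] (Pi.single 1 2)) := by
    rw [AsympCoh.cl_N_single, Nakai.cl_tensor, sq, Matrix.cons_val_one, Matrix.cons_val_zero]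
  have hwb := fun q c => window_bound k ![rep l, rep h] (fun j => by fin_cases j <;> exact isInvertible_rep _) hh hM
    hMv _ hgen q c g (Coh.structureModule A.left) (Nakai.isCoh_one k) (AsympCoh.noCh_top k hg.le _)
  choose C hC using hwb
  refine ⟨(∑ p ∈ Finset.range (g + 1) ×ˢ Finset.range (g + 1), (C p.1 p.2 : ℝ)) * ((R : ℝ) + 2) ^ g,
    by positivity, fun s δ q hs hδ hR hsg hq hwin => ?_⟩
  obtain ⟨c, hc⟩ : ∃ c, idx l h s = q + c := ⟨idx l h s - q, by omega⟩
  rw [hc, Nat.add_sub_cancel_left]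
  have hdnum : (δ.num.toNat : ℚ) = δ * δ.den := by
    rw [Rat.mul_den_eq_num]
    exact_mod_cast Int.toNat_of_nonneg (Rat.num_nonneg.2 hδ.le)
  have hsnum : (s.num.toNat : ℚ) = s * s.den := by
    rw [Rat.mul_den_eq_num]
    exact_mod_cast Int.toNat_of_nonneg (Rat.num_nonneg.2 hs)
  set b := s.den * δ.den * 2 with hbdef
  set a := s.num.toNat * δ.den * 2 with hadef
  set m := δ.num.toNat * s.den with hmdef
  have hb : 0 < b := Nat.mul_pos (Nat.mul_pos s.den_pos δ.den_pos) two_pos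
  have hbq : (0 : ℚ) < b := Nat.cast_pos.2 hb
  have ha' : (a : ℚ) = s * b := by rw [hadef, hbdef]; push_cast; rw [hsnum]; ring
  have hm' : (m : ℚ) * 2 = δ * b := by rw [hmdef, hbdef]; push_cast; rw [hdnum]; ring
  have hm1 : 1 ≤ m := by
    have : (0 : ℚ) < m := by nlinarith [mul_pos hδ hbq]
    exact_mod_cast this
  have hcs := conc_idx hg l h hs hsg hb (a := a) (by rw [ha']; field_simp)
  have hIg : idx l h s ≤ g := le_dim hg hcs
  have hsb : 0 ≤ δ * b := by positivity
  have hv : ∀ r : ℕ, (![b, a] + r • (Pi.single 1 2 : Fin 2 → ℕ)) = ![b, a + r * 2] := fun r => by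
    funext i; fin_cases i <;> simp
  have hw : Window k ![rep l, rep h] (Coh.structureModule A.left) (Pi.single 1 2) q c ![b, a] m := by
    intro r hr1 hr2 j hj
    rw [hv, hN_eq]
    have hr1' : (m : ℚ) ≤ r := by exact_mod_cast hr1
    have hr2' : (r : ℚ) ≤ c * m := by exact_mod_cast hr2
    have hcg : (c : ℚ) ≤ g + 2 := by
      have : c ≤ g + 2 := by omega
      exact_mod_cast this
    have hx1 : s + δ ≤ ((a + r * 2 : ℕ) : ℚ) / b := by
      rw [le_div_iff₀ hbq]; push_cast; rw [ha']; nlinarith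
    have hx2 : ((a + r * 2 : ℕ) : ℚ) / b ≤ s + (g + 2) * δ := by
      rw [div_le_iff₀ hbq]; push_cast; rw [ha']
      nlinarith [mul_le_mul_of_nonneg_right hcg hsb]
    obtain ⟨hgx, hIx⟩ := hwin _ hx1 hx2
    have hcx := conc_idx hg l h (x := ((a + r * 2 : ℕ) : ℚ) / b) (by positivity) hgx hb rfl
    exact CurveRR.h_eq_zero (k := k) (X := A.left) (hcx.1 j (by omega))
  set B := AsympCoh.size ![b, a] + c * m * AsympCoh.size (Pi.single 1 2 : Fin 2 → ℕ) with hBdef
  have key := hC q c ![b, a] m B hm1 hw le_rfl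
  rw [hN_eq] at key
  have habs : |(χc (l ^ b * h ^ a) : ℝ)| = (CurveRR.h k (rep (l ^ b * h ^ a)) (q + c) : ℝ) := hc ▸ abs_χc hcs
  have hev : (χc (l ^ b * h ^ a) : ℝ) = (b : ℝ) ^ g * (hilbR hg l h).eval (s : ℝ) := by
    rw [eval_hilbR]
    have := congrArg (fun z : ℚ => (z : ℝ)) (χc_eq hg l h a b hb)
    push_cast at this
    rw [this, show ((a : ℚ) / b) = s by rw [ha']; field_simp]
  have key' : (b : ℝ) ^ g * |(hilbR hg l h).eval (s : ℝ)| ≤
      (C q c : ℝ) * ((m : ℝ) ^ c * ((B : ℝ) + 1) ^ (g - c)) := by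
    rw [← abs_of_nonneg (show (0 : ℝ) ≤ (b : ℝ) ^ g by positivity), ← abs_mul, ← hev, habs]
    exact_mod_cast key
  have hmR : (m : ℝ) ≤ (δ : ℝ) * b := by
    have : (m : ℚ) ≤ δ * b := by rw [← hm']; linarith [show (0 : ℚ) ≤ m from Nat.cast_nonneg m]
    exact_mod_cast this
  have hBR : (B : ℝ) + 1 ≤ ((R : ℝ) + 2) * b := by
    have hs0 : AsympCoh.size ![b, a] = b + a := by simp [AsympCoh.size, Fin.sum_univ_two]
    have hs1 : AsympCoh.size (Pi.single 1 2 : Fin 2 → ℕ) = 2 := by simp [AsympCoh.size, Fin.sum_univ_two]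
    have hcg : (c : ℚ) ≤ g + 2 := by
      have : c ≤ g + 2 := by omega
      exact_mod_cast this
    have h1b : (1 : ℚ) ≤ b := by exact_mod_cast hb
    have h' : (B : ℚ) + 1 ≤ ((R : ℚ) + 2) * b := by
      rw [hBdef, hs0, hs1]
      push_cast
      rw [ha']
      nlinarith [mul_le_mul_of_nonneg_right hcg hsb, mul_le_mul_of_nonneg_right hR hbq.le]
    exact_mod_cast h'
  have hCle : (C q c : ℝ) ≤ ∑ p ∈ Finset.range (g + 1) ×ˢ Finset.range (g + 1), (C p.1 p.2 : ℝ) :=
    Finset.single_le_sum (f := fun p : ℕ × ℕ => (C p.1 p.2 : ℝ)) (fun _ _ => Nat.cast_nonneg _)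
      (Finset.mem_product.2 ⟨Finset.mem_range.2 (show q < g + 1 by omega),
        Finset.mem_range.2 (show c < g + 1 by omega)⟩ : (q, c) ∈ _)
  have hbpos : (0 : ℝ) < (b : ℝ) ^ g := pow_pos (Nat.cast_pos.2 hb) _
  have hR2 : (1 : ℝ) ≤ (R : ℝ) + 2 := by linarith [show (0 : ℝ) ≤ R from Nat.cast_nonneg R]
  refine le_of_mul_le_mul_left (key'.trans ?_) hbpos
  calc (C q c : ℝ) * ((m : ℝ) ^ c * ((B : ℝ) + 1) ^ (g - c))
      ≤ (C q c : ℝ) * (((δ : ℝ) * b) ^ c * (((R : ℝ) + 2) * b) ^ (g - c)) := by gcongr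
    _ = (C q c : ℝ) * ((R : ℝ) + 2) ^ (g - c) * ((δ : ℝ) ^ c * ((b : ℝ) ^ c * (b : ℝ) ^ (g - c))) := by
        rw [mul_pow, mul_pow]; ring
    _ ≤ (∑ p ∈ Finset.range (g + 1) ×ˢ Finset.range (g + 1), (C p.1 p.2 : ℝ)) * ((R : ℝ) + 2) ^ g *
          ((δ : ℝ) ^ c * ((b : ℝ) ^ c * (b : ℝ) ^ (g - c))) := by
        gcongr
        omega
    _ = _ := by rw [← pow_add, Nat.add_sub_cancel' (by omega : c ≤ g)]; ring

include hg hh in
/-- **The drop of the index is at most the number of roots.** -/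
theorem index_drop {a a' b b' i i' : ℕ} (hb : 0 < b) (hb' : 0 < b') (hle : (a : ℚ) / b ≤ (a' : ℚ) / b')
    (hi : ConcC (l ^ b * h ^ a) i) (hi' : ConcC (l ^ b' * h ^ a') i') :
    i ≤ i' + cnt (hilbR hg l h) (((a : ℚ) / b : ℚ) : ℝ) (((a' : ℚ) / b' : ℚ) : ℝ) ∧ i' ≤ i := by
  have hs0 : (0 : ℚ) ≤ (a : ℚ) / b := by positivity
  have hs := (good_iff hg l h a b hb).2 (χc_ne_zero hi)
  have ht := (good_iff hg l h a' b' hb').2 (χc_ne_zero hi')
  rw [Conc.unique hi (conc_idx hg l h hs0 hs hb rfl), Conc.unique hi' (conc_idx hg l h (hs0.trans hle) ht hb' rfl)]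
  exact ⟨index_le_add_cnt _ g _ (idx_anti hg l h hh) (idx_jump hg l h hh) hs0 hle hs ht,
    idx_anti hg l h hh _ _ hs0 hle hs ht⟩

end Groth.Agent.AVHilb
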