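import Groth.Agent.AVHilb.Index

/-!
# Roots of the Hilbert polynomial and the index, over any field
-/

set_option autoImplicit false
set_option backward.isDefEq.respectTransparency false
set_option backward.isDefEq.respectTransparency.types false
set_option linter.style.haveILetI false
set_option linter.unusedSectionVars false
set_option maxHeartbeats 2000000
set_option synthInstance.maxHeartbeats 200000

universe u

open CategoryTheory CategoryTheory.Limits MonoidalCategory CartesianMonoidalCategory MonObj GrpObj AlgebraicGeometry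
open Groth.Agent.W7Cube (pull pull_cls)
open Groth.Agent.AVDeg (rep isInvertible_rep cls_rep nonempty_rep_iso)
open Groth.Agent.AVEuler (χc)
open Groth.Agent.AVIndex (Conc ConcC)

noncomputable section

namespace Groth.Agent.AVHilb

attribute [local instance] W7Cube.law AVDeg.overInst

variable {k : Type u} [Field k]

/-- The Euler characteristic does not change with the field. -/
theorem euler_bcK (K : Type u) [Field K] [Algebra k K] {A : Over (Spec (CommRingCat.of k))} [IsProper A.hom]
    {M : A.left.Modules} (hM : Coh.IsQCoh M) :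
    Curv2.euler K (AVDeg.bcK k K A).left
        ((Scheme.Modules.pullback (pullback.fst A.hom (AVDeg.specMap k K))).obj M) =
      Curv2.euler k A.left M := by
  haveI : CompactSpace A.left := (quasiCompact_iff_compactSpace A.hom).1 inferInstance
  haveI : QuasiSeparatedSpace A.left := (quasiSeparated_iff_quasiSeparatedSpace A.hom).1 inferInstance
  refine finsum_congr fun j => ?_
  obtain ⟨e⟩ := W7FlatBC.nonempty_hh_baseChange k K (X := A.left) (X' := (AVDeg.bcK k K A).left)
    (pullback.fst A.hom (AVDeg.specMap k K)) (IsPullback.of_hasPullback _ _) M hM j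
  rw [← e.finrank_eq, Module.finrank_baseChange]

/-- What the proofs use: over the algebraic closure, a class with index, an ample class and the polynomial. -/
theorem exists_setup {X : Over (Spec (CommRingCat.of k))} [GrpObj X] [IsProper X.hom] [GeometricallyIntegral X.hom]
    {L H : X.left.Modules} (hL : PicF.IsInvertible L) (hH : CohB1.IsAmple H) (Φ : Polynomial ℚ)
    (hΦ : ∀ n : ℕ, Φ.eval (n : ℚ) =
      (@Curv2.euler k _ X.left ⟨X.hom⟩ (CohB1.tensorMod L (CohB1.tensorPow H n)) : ℚ)) :
    haveI := isCommMonObj_of_isProper_of_geometricallyIntegral X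
    ∃ (g : ℕ) (hg : topologicalKrullDim (AVDeg.bcK k (AlgebraicClosure k) X).left = (g : WithBot ℕ∞))
      (l h : PicLoc.PicSet (AVDeg.bcK k (AlgebraicClosure k) X).left), CohB1.IsAmple (rep h) ∧
      hilb hg l h = Φ ∧ (∀ i, Conc X L i → ConcC (l ^ 1 * h ^ 0) i) ∧
      ∀ M : X.left.Modules, Nonempty (M ≅ CohB1.tensorMod L H) → ∀ i, Conc X M i → ConcC (l ^ 1 * h ^ 1) i := by
  haveI := isCommMonObj_of_isProper_of_geometricallyIntegral X
  let K := AlgebraicClosure k
  let p : (AVDeg.bcK k K X).left ⟶ X.left := pullback.fst X.hom (AVDeg.specMap k K)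
  haveI : Nonempty X.left := ⟨η[X].left (IsLocalRing.closedPoint k)⟩
  obtain ⟨g, hg₀⟩ := AVDeg.exists_dim X
  have hg : topologicalKrullDim (AVDeg.bcK k K X).left = (g : WithBot ℕ∞) :=
    (AVDeg.topologicalKrullDim_bcK K).trans hg₀
  let l : PicLoc.PicSet (AVDeg.bcK k K X).left := pull p (PicGrp.cls L hL)
  let h : PicLoc.PicSet (AVDeg.bcK k K X).left := pull p (PicGrp.cls H hH.1)
  have hh : CohB1.IsAmple (rep h) := by
    obtain ⟨e⟩ := nonempty_rep_iso (PicLoc.isInvertible_pullback p hH.1)
    simp only [h]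
    rw [pull_cls]
    exact TMul.isAmple_congr e.symm (AVFin.isAmple_bcK hH)
  have hcls : ∀ (n : ℕ), PicGrp.cls (CohB1.tensorMod L (CohB1.tensorPow H n))
      (TMul.isInvertible_tensorMod hL (TMul.isInvertible_tensorPow hH.1 n)) =
        PicGrp.cls L hL * PicGrp.cls H hH.1 ^ n := fun n => by
    have h2 : PicGrp.cls _ (TMul.isInvertible_tensorPow hH.1 n) = PicGrp.cls H hH.1 ^ n :=
      Subtype.ext (PicGrp.cls_pow_val hH.1 n).symm
    rw [← h2]
    exact (Subtype.ext (PicGrp.cls_mul_cls_val _ _)).symm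
  have hχ : ∀ n : ℕ, χc (A := AVDeg.bcK k K X) (l * h ^ n) = Curv2.euler k X.left (CohB1.tensorMod L (CohB1.tensorPow H n)) := fun n => by
    rw [show l * h ^ n = pull p (PicGrp.cls L hL * PicGrp.cls H hH.1 ^ n) by rw [map_mul, map_pow], ← hcls n,
      pull_cls, AVEuler.χc_cls]
    exact euler_bcK K (TMul.isQCoh_of_isInvertible (TMul.isInvertible_tensorMod hL (TMul.isInvertible_tensorPow hH.1 n)))
  refine ⟨g, hg, l, h, hh, ?_, fun i hi => ?_, fun M hM i hi => ?_⟩
  · refine Polynomial.eq_of_infinite_eval_eq _ _ (Set.infinite_of_injective_forall_mem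
      (f := fun m : ℕ => (m : ℚ)) Nat.cast_injective fun n => ?_)
    show (hilb hg l h).eval (n : ℚ) = Φ.eval (n : ℚ)
    have e := χc_eq hg l h n 1 one_pos
    rw [Nat.cast_one, one_pow, _root_.one_mul, div_one, pow_one] at e
    rw [← e, hχ, hΦ]
  · rw [pow_one, pow_zero, _root_.mul_one]
    simp only [l]
    rw [pull_cls]
    exact (AVIndex.concC_cls _ i).2 (hi.bcK K hL)
  · obtain ⟨e⟩ := hM
    have hi' : Conc X (CohB1.tensorMod L H) i :=
      hi.congr fun j => ⟨fun hs => CohQC.hh_subsingleton_of_iso e j hs, fun hs => CohQC.hh_subsingleton_of_iso e.symm j hs⟩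
    have hc : PicGrp.cls _ (TMul.isInvertible_tensorMod hL hH.1) = PicGrp.cls L hL * PicGrp.cls H hH.1 :=
      (Subtype.ext (PicGrp.cls_mul_cls_val _ _)).symm
    rw [pow_one, pow_one, show l * h = pull p (PicGrp.cls L hL * PicGrp.cls H hH.1) by rw [map_mul], ← hc, pull_cls]
    exact (AVIndex.concC_cls _ i).2 (hi'.bcK K (TMul.isInvertible_tensorMod hL hH.1))

variable [IsAlgClosed k] {A : Over (Spec (CommRingCat.of k))} [GrpObj A] [IsProper A.hom]
  [GeometricallyIntegral A.hom] [IsCommMonObj A] {g : ℕ} (hg : topologicalKrullDim A.left = (g : WithBot ℕ∞))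
  (l h : PicLoc.PicSet A.left) (hh : CohB1.IsAmple (rep h))

include hg hh in
/-- A large twist has index zero. -/
theorem exists_conc_zero (hne : hilb hg l h ≠ 0) : ∃ N : ℕ, ConcC (l ^ 1 * h ^ N) 0 := by
  obtain ⟨n₀, hn₀⟩ := CohFinite.vanish_ample (R := k) A.hom hh
    (M := rep l) ⟨TMul.isQCoh_of_isInvertible (isInvertible_rep l), TMul.isFT_of_isInvertible (isInvertible_rep l)⟩
  obtain ⟨N, hN, hev⟩ : ∃ N, n₀ ≤ N ∧ (hilb hg l h).eval (N : ℚ) ≠ 0 := by
    by_contra hcon
    push Not at hcon
    exact hne (Polynomial.eq_zero_of_infinite_isRoot _ (Set.infinite_of_injective_forall_mem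
      (f := fun m : ℕ => ((n₀ + m : ℕ) : ℚ)) (fun a b hab => by simpa using hab)
      fun m => hcon _ (Nat.le_add_right n₀ m)))
  have hχ : χc (l ^ 1 * h ^ N) ≠ 0 := by
    rw [← Int.cast_ne_zero (α := ℚ), χc_eq hg l h N 1 one_pos]
    simpa using hev
  obtain ⟨i, -, hi⟩ := exists_conc hg hχ
  refine ⟨N, ?_⟩
  rcases i with _ | i
  · exact hi
  · refine absurd ?_ (not_subsingleton_iff_nontrivial.2 hi.2)
    obtain ⟨e⟩ : Nonempty (rep (l ^ 1 * h ^ N) ≅ CohB1.tensorMod (rep l) (CohB1.tensorPow (rep h) N)) := by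
      refine (PicGrp.cl_eq_cl_iff _ _).1 ?_
      have h2 : PicGrp.cls _ (TMul.isInvertible_tensorPow (isInvertible_rep h) N) = h ^ N :=
        (Subtype.ext (PicGrp.cls_pow_val (isInvertible_rep h) N).symm).trans (by rw [cls_rep])
      have h3 := congrArg Subtype.val (cls_rep (l ^ 1 * h ^ N))
      refine h3.trans (Eq.trans ?_ (PicGrp.cls_mul_cls_val (isInvertible_rep l)
        (TMul.isInvertible_tensorPow (isInvertible_rep h) N)))
      rw [h2, cls_rep, pow_one]
    exact CohQC.hh_subsingleton_of_iso e.symm (i + 1) (hn₀ N hN i)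

include hg hh in
/-- The index is at most the number of positive roots. -/
theorem index_le_pos {i : ℕ} (hi : ConcC (l ^ 1 * h ^ 0) i) :
    i ≤ Multiset.card ((hilbR hg l h).roots.filter fun x => 0 < x) := by
  have hne : hilb hg l h ≠ 0 := fun h0 => χc_ne_zero hi (by
    have e := χc_eq hg l h 0 1 one_pos
    rw [h0, Polynomial.eval_zero, mul_zero] at e
    exact_mod_cast e)
  obtain ⟨N, hN⟩ := exists_conc_zero hg l h hh hne
  have h1 := (index_drop hg l h hh (a := 0) (a' := N) one_pos one_pos (by simp) hi hN).1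
  rw [zero_add] at h1
  refine h1.trans (Multiset.card_le_card (Multiset.monotone_filter_right _ fun x hx => ?_))
  have h2 := hx.1
  simp only [Nat.cast_zero, zero_div, Rat.cast_zero] at h2
  exact h2

include hg hh in
/-- **All roots are real and the index is the number of positive ones.** -/
theorem roots_count {i : ℕ} (hi : ConcC (l ^ 1 * h ^ 0) i) :
    Multiset.card (hilbR hg l h).roots = (hilbR hg l h).natDegree ∧
      i = Multiset.card ((hilbR hg l h).roots.filter fun x => 0 < x) := by
  classical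
  have hig : i ≤ g := le_dim hg hi
  obtain ⟨j, hj, hj'⟩ : ∃ j, j = g - i ∧ ConcC (l⁻¹ ^ 1 * h ^ 0) j := by
    rw [pow_one, pow_zero, _root_.mul_one] at hi
    refine ⟨g - i, rfl, ?_⟩
    rw [pow_one, pow_zero, _root_.mul_one]
    exact (Conc.inv (isInvertible_rep l) hi (isInvertible_rep l⁻¹) (by rw [cls_rep, cls_rep]) g hg).2
  have hpos := index_le_pos hg l h hh hi
  have hneg := index_le_pos hg l⁻¹ h hh hj'
  have hcomp : (hilbR hg l⁻¹ h).comp (-Polynomial.X) = Polynomial.C ((-1 : ℝ) ^ g) * hilbR hg l h := by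
    have e := congrArg (Polynomial.map (algebraMap ℚ ℝ)) (hilb_inv hg l h)
    simpa [hilbR, Polynomial.map_comp, Polynomial.map_mul] using e
  have hroots : (hilbR hg l h).roots = (hilbR hg l⁻¹ h).roots.map fun x => -x := by
    rw [← Polynomial.roots_comp_neg_X, hcomp, Polynomial.roots_C_mul _ (pow_ne_zero _ (by norm_num))]
  have hneg' : Multiset.card ((hilbR hg l⁻¹ h).roots.filter fun x => 0 < x) =
      Multiset.card ((hilbR hg l h).roots.filter fun x => x < 0) := by
    rw [hroots, Multiset.filter_map, Multiset.card_map]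
    congr 1
    exact Multiset.filter_congr fun x _ => by simp
  have hsum := card_filter_add_le (hilbR hg l h).roots (p := fun x => 0 < x) (q := fun x => x < 0)
    (r := fun _ => True) (fun _ _ => trivial) (fun _ _ => trivial) fun x hx hx' => lt_asymm hx hx'
  rw [Multiset.filter_eq_self.2 fun _ _ => trivial] at hsum
  have hdeg : (hilbR hg l h).natDegree ≤ g := Polynomial.natDegree_map_le.trans (natDegree_hilb hg l h)
  have hcard := Polynomial.card_roots' (hilbR hg l h)
  omega

end Groth.Agent.AVHilb
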